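import Groth.Agent.NodeCplLib.Surj

/-!
# Eigen coordinates of a node deformation with an involution
-/

set_option autoImplicit false

universe u

open IsLocalRing

namespace NodeInvolLib

variable {R S : Type u} [CommRing R] [CommRing S] [Algebra R S] (σ : S ≃ₐ[R] S)

/-- The projection to the eigenspace of a sign. -/
noncomputable def proj (h χ : R) (z : S) : S :=
  algebraMap R S h * (z + algebraMap R S χ * σ z)

variable {σ}

theorem map_mem {I : Ideal R} {z : S} (hz : z ∈ I.map (algebraMap R S)) :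
    σ z ∈ I.map (algebraMap R S) := by
  have h := Ideal.mem_map_of_mem σ.toAlgHom.toRingHom hz
  rw [Ideal.map_map] at h
  have e : σ.toAlgHom.toRingHom.comp (algebraMap R S) = algebraMap R S := RingHom.ext fun r => σ.commutes r
  rw [e] at h
  exact h

theorem proj_mem {h χ : R} {I : Ideal R} {z : S} (hz : z ∈ I.map (algebraMap R S)) :
    proj σ h χ z ∈ I.map (algebraMap R S) :=
  Ideal.mul_mem_left _ _ (add_mem hz (Ideal.mul_mem_left _ _ (map_mem hz)))

theorem map_proj (hσ : ∀ s, σ (σ s) = s) {h χ : R} (hχ : χ * χ = 1) (z : S) :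
    σ (proj σ h χ z) = algebraMap R S χ * proj σ h χ z := by
  simp only [proj, map_mul, map_add, AlgEquiv.commutes, hσ]
  have : algebraMap R S χ * algebraMap R S χ = 1 := by rw [← map_mul, hχ, map_one]
  linear_combination (-(algebraMap R S h * σ z)) * this

theorem proj_sub {h χ : R} (z w : S) : proj σ h χ (z - w) = proj σ h χ z - proj σ h χ w := by
  simp only [proj, map_sub]; ring

theorem proj_add {h χ : R} (z w : S) : proj σ h χ (z + w) = proj σ h χ z + proj σ h χ w := by
  simp only [proj, map_add]; ring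

theorem proj_mul_eigen {h χ ξ : R} {u : S} (hu : σ u = algebraMap R S ξ * u) (p : S) :
    proj σ h χ (p * u) = proj σ h (χ * ξ) p * u := by
  simp only [proj, map_mul, hu]; ring

theorem proj_algebraMap {h χ : R} (c : R) :
    proj σ h χ (algebraMap R S c) = algebraMap R S (h * (1 + χ) * c) := by
  simp only [proj, AlgEquiv.commutes, map_mul, map_add, map_one]; ring

theorem proj_eq_self {h χ : R} (h2 : 2 * h = 1) (hχ : χ * χ = 1) {z : S} (hz : σ z = algebraMap R S χ * z) :
    proj σ h χ z = z := by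
  have e1 : algebraMap R S χ * algebraMap R S χ = 1 := by rw [← map_mul, hχ, map_one]
  have e2 : 2 * algebraMap R S h = 1 := by rw [← map_ofNat (algebraMap R S) 2, ← map_mul, h2, map_one]
  simp only [proj, hz]
  linear_combination (algebraMap R S h * z) * e1 + z * e2

variable [IsLocalRing R] [IsLocalRing S] [IsLocalHom (algebraMap R S)]

/-- Approximations of eigen coordinates with constant product. -/
theorem exists_seq (hσ : ∀ s, σ (σ s) = s) {h ξ η : R} (h2 : 2 * h = 1) (hξ : ξ * ξ = 1) (hη : η * η = 1)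
    (hres : Function.Bijective (ResidueField.map (algebraMap R S))) {u v : S}
    (hu : σ u = algebraMap R S ξ * u) (hv : σ v = algebraMap R S η * v)
    (huv : u * v ∈ (maximalIdeal R).map (algebraMap R S))
    (hgen : maximalIdeal S = Ideal.span {u, v} ⊔ (maximalIdeal R).map (algebraMap R S)) :
    ∃ (us vs : ℕ → S) (ε : ℕ → R), us 0 = u ∧ vs 0 = v ∧
      ∀ n : ℕ, σ (us n) = algebraMap R S ξ * us n ∧ σ (vs n) = algebraMap R S η * vs n ∧
        ε n * (ξ * η) = ε n ∧ ε n ∈ maximalIdeal R ∧
        us (n + 1) - us n ∈ (maximalIdeal R ^ (n + 1)).map (algebraMap R S) ∧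
        vs (n + 1) - vs n ∈ (maximalIdeal R ^ (n + 1)).map (algebraMap R S) ∧
        ε (n + 1) - ε n ∈ maximalIdeal R ^ (n + 1) ∧
        us n * vs n - algebraMap R S (ε n) ∈ (maximalIdeal R ^ (n + 1)).map (algebraMap R S) := by
  let M : Ideal S := (maximalIdeal R).map (algebraMap R S)
  let P : ℕ → S × S × R → Prop := fun n s =>
    σ s.1 = algebraMap R S ξ * s.1 ∧ σ s.2.1 = algebraMap R S η * s.2.1 ∧ s.2.2 * (ξ * η) = s.2.2 ∧
    s.2.2 ∈ maximalIdeal R ∧ s.1 - u ∈ M ∧ s.2.1 - v ∈ M ∧
    s.1 * s.2.1 - algebraMap R S s.2.2 ∈ (maximalIdeal R ^ (n + 1)).map (algebraMap R S)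
  have hpow : ∀ n : ℕ, (maximalIdeal R ^ (n + 1)).map (algebraMap R S) ≤ M := fun n =>
    Ideal.map_mono (Ideal.pow_le_self n.succ_ne_zero)
  have hχ : (ξ * η) * (ξ * η) = 1 := by rw [mul_mul_mul_comm, hξ, hη, one_mul]
  have step : ∀ n s, P n s → ∃ t, P (n + 1) t ∧
      t.1 - s.1 ∈ (maximalIdeal R ^ (n + 1)).map (algebraMap R S) ∧
      t.2.1 - s.2.1 ∈ (maximalIdeal R ^ (n + 1)).map (algebraMap R S) ∧
      t.2.2 - s.2.2 ∈ maximalIdeal R ^ (n + 1) := by
    rintro n ⟨a, b, e⟩ ⟨ha, hb, he, hem, hau, hbv, hr⟩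
    obtain ⟨c, hc, p, hp, q, hq, hw⟩ := NodeCplLib.exists_split hres hgen _ hr
    let χ := ξ * η
    have hrχ : σ (a * b - algebraMap R S e) = algebraMap R S χ * (a * b - algebraMap R S e) := by
      have he' : algebraMap R S e * algebraMap R S χ = algebraMap R S e := by rw [← map_mul, he]
      simp only [map_sub, map_mul, ha, hb, AlgEquiv.commutes, χ]
      simp only [χ, map_mul] at he'
      linear_combination he'
    let c' := h * (1 + χ) * c
    let p' := proj σ h η p
    let q' := proj σ h ξ q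
    have hc' : c' ∈ maximalIdeal R ^ (n + 1) := Ideal.mul_mem_left _ _ hc
    have hp' : p' ∈ (maximalIdeal R ^ (n + 1)).map (algebraMap R S) := proj_mem hp
    have hq' : q' ∈ (maximalIdeal R ^ (n + 1)).map (algebraMap R S) := proj_mem hq
    have hw' := proj_mem (σ := σ) (h := h) (χ := χ) hw
    have e1 : χ * ξ = η := by simp only [χ]; rw [mul_comm ξ η, mul_assoc, hξ, mul_one]
    have e2 : χ * η = ξ := by simp only [χ]; rw [mul_assoc, hη, mul_one]
    rw [proj_sub, proj_add, proj_add, proj_algebraMap, proj_mul_eigen hu, proj_mul_eigen hv, e1, e2,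
      proj_eq_self h2 hχ hrχ] at hw'
    refine ⟨⟨a - q', b - p', e + c'⟩, ⟨?_, ?_, ?_, ?_, ?_, ?_, ?_⟩, ?_, ?_, ?_⟩
    · show σ (a - q') = _
      rw [map_sub, ha, map_proj hσ hξ, mul_sub]
    · show σ (b - p') = _
      rw [map_sub, hb, map_proj hσ hη, mul_sub]
    · show (e + c') * χ = e + c'
      simp only [c']
      linear_combination he + (h * c) * hχ
    · exact add_mem hem (Ideal.pow_le_self n.succ_ne_zero hc')
    · show a - q' - u ∈ M
      rw [sub_right_comm]
      exact sub_mem hau (hpow n hq')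
    · show b - p' - v ∈ M
      rw [sub_right_comm]
      exact sub_mem hbv (hpow n hp')
    · show (a - q') * (b - p') - algebraMap R S (e + c') ∈ _
      rw [pow_succ, map_add, show (a - q') * (b - p') - (algebraMap R S e + algebraMap R S c') =
        (a * b - algebraMap R S e - (algebraMap R S c' + p' * u + q' * v)) + p' * (u - a) + q' * (v - b) + p' * q'
        by ring]
      have hM' : M = (maximalIdeal R).map (algebraMap R S) := rfl
      rw [Ideal.map_mul, ← hM'] at hw' ⊢
      refine add_mem (add_mem (add_mem hw' (Ideal.mul_mem_mul hp' ?_)) (Ideal.mul_mem_mul hq' ?_))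
        (Ideal.mul_mem_mul hp' (hpow n hq'))
      · rw [← neg_sub]; exact neg_mem hau
      · rw [← neg_sub]; exact neg_mem hbv
    · show a - q' - a ∈ _
      simpa using neg_mem hq'
    · show b - p' - b ∈ _
      simpa using neg_mem hp'
    · show e + c' - e ∈ _
      simpa using hc'
  choose next hnext using step
  let seq : ∀ n, { s : S × S × R // P n s } := fun n => Nat.rec
    ⟨(u, v, 0), hu, hv, zero_mul _, zero_mem _, by simp, by simp, by simpa using huv⟩
    (fun m s => ⟨next m s.1 s.2, (hnext m s.1 s.2).1⟩) n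
  refine ⟨fun n => (seq n).1.1, fun n => (seq n).1.2.1, fun n => (seq n).1.2.2, rfl, rfl, fun n => ?_⟩
  obtain ⟨h1, h2', h3, h4, -, -, h5⟩ := (seq n).2
  obtain ⟨-, d1, d2, d3⟩ := hnext n (seq n).1 (seq n).2
  exact ⟨h1, h2', h3, h4, d1, d2, d3, h5⟩

/-- Eigen coordinates whose product is a constant. -/
theorem exists_coords [IsNoetherianRing R] [IsNoetherianRing S] [IsAdicComplete (maximalIdeal R) R]
    [IsAdicComplete (maximalIdeal S) S]
    (hσ : ∀ s, σ (σ s) = s) {h ξ η : R} (h2 : 2 * h = 1) (hξ : ξ * ξ = 1) (hη : η * η = 1)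
    (hres : Function.Bijective (ResidueField.map (algebraMap R S))) {u v : S}
    (hu : σ u = algebraMap R S ξ * u) (hv : σ v = algebraMap R S η * v)
    (huv : u * v ∈ (maximalIdeal R).map (algebraMap R S))
    (hgen : maximalIdeal S = Ideal.span {u, v} ⊔ (maximalIdeal R).map (algebraMap R S)) :
    ∃ (x y : S) (t : R), σ x = algebraMap R S ξ * x ∧ σ y = algebraMap R S η * y ∧
      x - u ∈ (maximalIdeal R).map (algebraMap R S) ∧ y - v ∈ (maximalIdeal R).map (algebraMap R S) ∧
      t ∈ maximalIdeal R ∧ t * (ξ * η) = t ∧ x * y = algebraMap R S t := by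
  obtain ⟨us, vs, ε, hus0, hvs0, hseq⟩ := exists_seq hσ h2 hξ hη hres hu hv huv hgen
  let M : Ideal S := (maximalIdeal R).map (algebraMap R S)
  have hMle : M ≤ maximalIdeal S := hgen ▸ le_sup_right
  obtain ⟨x, hx, hx0⟩ := NodeCplLib.exists_limit M hMle us fun n => by
    have := (hseq n).2.2.2.2.1
    rwa [Ideal.map_pow] at this
  obtain ⟨y, hy, hy0⟩ := NodeCplLib.exists_limit M hMle vs fun n => by
    have := (hseq n).2.2.2.2.2.1
    rwa [Ideal.map_pow] at this
  obtain ⟨t, ht, ht0⟩ := NodeCplLib.exists_limit (maximalIdeal R) le_rfl ε fun n => (hseq n).2.2.2.2.2.2.1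
  rw [hus0] at hx0
  rw [hvs0] at hy0
  have htm : t ∈ maximalIdeal R := (Submodule.sub_mem_iff_left _ (hseq 0).2.2.2.1).1 ht0
  have hmap : ∀ (n : ℕ) (z : S), z ∈ maximalIdeal S ^ n → σ z ∈ maximalIdeal S ^ n := by
    intro n z hz
    have h := Ideal.mem_map_of_mem σ.toAlgHom.toRingHom hz
    rw [Ideal.map_pow] at h
    refine Ideal.pow_right_mono ?_ n h
    rw [Ideal.map_le_iff_le_comap]
    intro a ha hu
    exact ha ((MulEquiv.isUnit_map (f := σ.toMulEquiv) (x := a)).1 hu)
  have haus : ∀ (z w : S) (κ : R) (zs : ℕ → S), (∀ n, z - zs n ∈ maximalIdeal S ^ n) →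
      (∀ n, σ (zs n) = algebraMap R S κ * zs n) → w = z → σ z = algebraMap R S κ * w := by
    rintro z w κ zs hzs heig rfl
    refine sub_eq_zero.1 (IsHausdorff.haus (I := maximalIdeal S) inferInstance _ fun n => ?_)
    rw [SModEq.zero, smul_eq_mul, Ideal.mul_top,
      show σ w - algebraMap R S κ * w = σ (w - zs n) - algebraMap R S κ * (w - zs n) by
        rw [map_sub, heig]; ring]
    exact sub_mem (hmap n _ (hzs n)) (Ideal.mul_mem_left _ _ (hzs n))
  refine ⟨x, y, t, haus x x ξ us hx (fun n => (hseq n).1) rfl, haus y y η vs hy (fun n => (hseq n).2.1) rfl,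
    hx0, hy0, htm, ?_, ?_⟩
  · refine sub_eq_zero.1 (IsHausdorff.haus (I := maximalIdeal R) inferInstance _ fun n => ?_)
    rw [SModEq.zero, smul_eq_mul, Ideal.mul_top,
      show t * (ξ * η) - t = (t - ε n) * (ξ * η) - (t - ε n) by linear_combination (hseq n).2.2.1]
    exact sub_mem (Ideal.mul_mem_right _ _ (ht n)) (ht n)
  · refine sub_eq_zero.1 (IsHausdorff.haus (I := maximalIdeal S) inferInstance _ fun n => ?_)
    rw [SModEq.zero, smul_eq_mul, Ideal.mul_top,
      show x * y - algebraMap R S t = (x - us n) * y + us n * (y - vs n) +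
        (us n * vs n - algebraMap R S (ε n)) - algebraMap R S (t - ε n) by rw [map_sub]; ring]
    refine sub_mem (add_mem (add_mem (Ideal.mul_mem_right _ _ (hx n)) (Ideal.mul_mem_left _ _ (hy n))) ?_) ?_
    · refine Ideal.pow_le_pow_right n.le_succ (Ideal.pow_right_mono hMle _ ?_)
      rw [← Ideal.map_pow]
      exact (hseq n).2.2.2.2.2.2.2
    · have h := Ideal.mem_map_of_mem (algebraMap R S) (ht n)
      rw [Ideal.map_pow] at h
      exact Ideal.pow_right_mono hMle n h

end NodeInvolLib
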