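import Groth.Agent.CohenLib.PSLocal
import Mathlib.RingTheory.MvPowerSeries.Rename
import Mathlib.RingTheory.Ideal.Quotient.Noetherian
import Mathlib.RingTheory.MvPowerSeries.NoZeroDivisors

/-!
# The node `k[[X, Y]]/(XY)`
-/

set_option autoImplicit false

universe u

open IsLocalRing

namespace NodeInvolLib

variable (k : Type u) [Field k]

/-- The split node. -/
abbrev NN : Type u :=
  MvPowerSeries (Fin 2) k ⧸ Ideal.span {(MvPowerSeries.X 0 * MvPowerSeries.X 1 : MvPowerSeries (Fin 2) k)}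

/-- The node with two branches `y = ± x`. -/
abbrev N2 : Type u :=
  MvPowerSeries (Fin 2) k ⧸
    Ideal.span {(MvPowerSeries.X 1 ^ 2 - MvPowerSeries.X 0 ^ 2 : MvPowerSeries (Fin 2) k)}

theorem maximalIdeal_ps : maximalIdeal (MvPowerSeries (Fin 2) k) = CohenLib.varsIdeal k 2 := by
  rw [CohenLib.maximalIdeal_mvPowerSeries, IsLocalRing.maximalIdeal_eq_bot, Ideal.map_bot, bot_sup_eq]

theorem isAdicComplete_ps : IsAdicComplete (maximalIdeal (MvPowerSeries (Fin 2) k)) (MvPowerSeries (Fin 2) k) := by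
  rw [maximalIdeal_ps]
  exact CohenLib.isAdicComplete_varsIdeal k

/-- A linear substitution hitting both variables is surjective. -/
theorem exists_subst (x : Fin 2 → MvPowerSeries (Fin 2) k) (hx : ∀ i, x i ∈ CohenLib.varsIdeal k 2)
    (hgen : ∀ i, MvPowerSeries.X i ∈ Ideal.span (Set.range x)) :
    ∃ L : MvPowerSeries (Fin 2) k →+* MvPowerSeries (Fin 2) k,
      (∀ c, L (MvPowerSeries.C c) = MvPowerSeries.C c) ∧ (∀ i, L (MvPowerSeries.X i) = x i) ∧
        Function.Surjective L := by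
  haveI := isAdicComplete_ps k
  haveI := CohenLib.isAdicComplete_varsIdeal (n := 2) k
  let L := CohenLib.psHom (maximalIdeal (MvPowerSeries (Fin 2) k)) MvPowerSeries.C x
    (fun i => (maximalIdeal_ps k).symm ▸ hx i)
  have hX : ∀ i, L (MvPowerSeries.X i) = x i := CohenLib.psHom_X _ _ _ _
  have hC : ∀ c, L (MvPowerSeries.C c) = MvPowerSeries.C c := CohenLib.psHom_C _ _ _ _
  refine ⟨L, hC, hX, CohenLib.surjective_of_complete (maximalIdeal (MvPowerSeries (Fin 2) k))
    (CohenLib.varsIdeal k 2) L ?_ fun r => ?_⟩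
  · rw [maximalIdeal_ps, CohenLib.varsIdeal, Ideal.map_span, ← Set.range_comp]
    refine le_antisymm (Ideal.span_le.2 ?_) (Ideal.span_le.2 ?_)
    · rintro _ ⟨i, rfl⟩
      rw [Function.comp_apply, hX]
      exact hx i
    · rintro _ ⟨i, rfl⟩
      rw [show L ∘ MvPowerSeries.X = x from funext hX]
      exact hgen i
  · refine ⟨MvPowerSeries.C (MvPowerSeries.constantCoeff r), ?_⟩
    rw [hC, maximalIdeal_ps, ← CohenLib.ker_constantCoeff, RingHom.mem_ker, map_sub,
      MvPowerSeries.constantCoeff_C, sub_self]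

instance : IsNoetherianRing (MvPowerSeries (Fin 2) k) := CohenLib.isNoetherianRing_mvPowerSeries k

/-- A surjection between the two models induced by a substitution. -/
theorem exists_descend {F G : MvPowerSeries (Fin 2) k} (L : MvPowerSeries (Fin 2) k →+* MvPowerSeries (Fin 2) k)
    (hC : ∀ c, L (MvPowerSeries.C c) = MvPowerSeries.C c) (hs : Function.Surjective L)
    (hFG : L F ∈ Ideal.span {G}) :
    ∃ ψ : (MvPowerSeries (Fin 2) k ⧸ Ideal.span {F}) →+* (MvPowerSeries (Fin 2) k ⧸ Ideal.span {G}),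
      (∀ c, ψ (Ideal.Quotient.mk _ (MvPowerSeries.C c)) = Ideal.Quotient.mk _ (MvPowerSeries.C c)) ∧
        Function.Surjective ψ := by
  refine ⟨Ideal.quotientMap _ L (by
      rw [Ideal.span_le, Set.singleton_subset_iff]; exact hFG), fun c => ?_, fun y => ?_⟩
  · rw [Ideal.quotientMap_mk, hC]
  · obtain ⟨g, rfl⟩ := Ideal.Quotient.mk_surjective y
    obtain ⟨f, rfl⟩ := hs g
    exact ⟨Ideal.Quotient.mk _ f, Ideal.quotientMap_mk⟩

/-- The two models agree when `2` is invertible. -/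
theorem exists_equiv_model (h2 : (2 : k) ≠ 0) :
    ∃ ψ : NN k ≃+* N2 k,
      ∀ c, ψ (Ideal.Quotient.mk _ (MvPowerSeries.C c)) = Ideal.Quotient.mk _ (MvPowerSeries.C c) := by
  let P := MvPowerSeries (Fin 2) k
  let X₀ : P := MvPowerSeries.X 0
  let X₁ : P := MvPowerSeries.X 1
  let hh : P := MvPowerSeries.C (2 : k)⁻¹
  have hh2 : hh * 2 = 1 := by
    rw [← map_ofNat (MvPowerSeries.C : k →+* P) 2, ← map_mul, inv_mul_cancel₀ h2, map_one]
  have hv : ∀ a b : P, a * X₀ + b * X₁ ∈ CohenLib.varsIdeal k 2 := fun a b =>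
    add_mem (Ideal.mul_mem_left _ _ (Ideal.subset_span ⟨0, rfl⟩)) (Ideal.mul_mem_left _ _ (Ideal.subset_span ⟨1, rfl⟩))
  have hmem : ∀ (x : Fin 2 → P) (a b : P), a * x 0 + b * x 1 ∈ Ideal.span (Set.range x) := fun x a b =>
    add_mem (Ideal.mul_mem_left _ _ (Ideal.subset_span ⟨0, rfl⟩)) (Ideal.mul_mem_left _ _ (Ideal.subset_span ⟨1, rfl⟩))
  obtain ⟨L₁, hC₁, hX₁, hs₁⟩ := exists_subst k ![(-1) * X₀ + 1 * X₁, 1 * X₀ + 1 * X₁]
    (fun i => by fin_cases i <;> exact hv _ _) (fun i => by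
      fin_cases i
      · convert hmem ![(-1) * X₀ + 1 * X₁, 1 * X₀ + 1 * X₁] (-hh) hh using 1
        show X₀ = _
        simp only [Matrix.cons_val_zero, Matrix.cons_val_one]
        linear_combination (-X₀) * hh2
      · convert hmem ![(-1) * X₀ + 1 * X₁, 1 * X₀ + 1 * X₁] hh hh using 1
        show X₁ = _
        simp only [Matrix.cons_val_zero, Matrix.cons_val_one]
        linear_combination (-X₁) * hh2)
  obtain ⟨L₂, hC₂, hX₂, hs₂⟩ := exists_subst k ![(-hh) * X₀ + hh * X₁, hh * X₀ + hh * X₁]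
    (fun i => by fin_cases i <;> exact hv _ _) (fun i => by
      fin_cases i
      · convert hmem ![(-hh) * X₀ + hh * X₁, hh * X₀ + hh * X₁] (-1) 1 using 1
        show X₀ = _
        simp only [Matrix.cons_val_zero, Matrix.cons_val_one]
        linear_combination (-X₀) * hh2
      · convert hmem ![(-hh) * X₀ + hh * X₁, hh * X₀ + hh * X₁] 1 1 using 1
        show X₁ = _
        simp only [Matrix.cons_val_zero, Matrix.cons_val_one]
        linear_combination (-X₁) * hh2)
  obtain ⟨ψ₁, hψC₁, hψs₁⟩ := exists_descend k (F := X₀ * X₁) (G := X₁ ^ 2 - X₀ ^ 2) L₁ hC₁ hs₁ (by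
    rw [map_mul, hX₁, hX₁]
    refine Ideal.mem_span_singleton.2 ⟨1, ?_⟩
    simp only [Matrix.cons_val_zero, Matrix.cons_val_one]
    ring)
  obtain ⟨ψ₂, hψC₂, hψs₂⟩ := exists_descend k (F := X₁ ^ 2 - X₀ ^ 2) (G := X₀ * X₁) L₂ hC₂ hs₂ (by
    rw [map_sub, map_pow, map_pow, hX₂, hX₂]
    refine Ideal.mem_span_singleton.2 ⟨1, ?_⟩
    simp only [Matrix.cons_val_zero, Matrix.cons_val_one]
    linear_combination (X₀ * X₁ * (2 * hh + 1)) * hh2)
  have hinj : Function.Injective (ψ₂.comp ψ₁) :=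
    CohenLib.injective_of_surjective_ringEndo _ (hψs₂.comp hψs₁)
  exact ⟨RingEquiv.ofBijective ψ₁ ⟨fun a b hab => hinj (congrArg ψ₂ hab), hψs₁⟩, hψC₁⟩

/-- The branch killing `X i`. -/
theorem exists_branch (i j : Fin 2) (hij : i ≠ j) :
    ∃ θ : NN k →+* MvPowerSeries (Fin 1) k,
      θ (Ideal.Quotient.mk _ (MvPowerSeries.X j)) ≠ 0 ∧
      RingHom.ker θ = Ideal.span {Ideal.Quotient.mk _ (MvPowerSeries.X i)} := by
  classical
  let e : Fin 1 ↪ Fin 2 := ⟨fun _ => j, fun a b _ => Subsingleton.elim a b⟩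
  let κ := (MvPowerSeries.killCompl (R := k) e).toRingHom
  have hi : κ (MvPowerSeries.X i) = 0 := MvPowerSeries.killCompl_X_eq_zero fun ⟨_, h⟩ => hij h.symm
  have hj : κ (MvPowerSeries.X j) = MvPowerSeries.X 0 := MvPowerSeries.killCompl_X (R := k) (e := e) 0
  have h01 : κ (MvPowerSeries.X 0 * MvPowerSeries.X 1) = 0 := by
    rw [map_mul]
    fin_cases i
    · simp only [Fin.isValue, Fin.zero_eta] at hi
      rw [hi, zero_mul]
    · simp only [Fin.isValue, Fin.mk_one] at hi
      rw [hi, mul_zero]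
  let θ : NN k →+* MvPowerSeries (Fin 1) k := Ideal.Quotient.lift _ κ fun a ha => by
    obtain ⟨t, rfl⟩ := Ideal.mem_span_singleton.1 ha
    rw [map_mul, h01, zero_mul]
  refine ⟨θ, ?_, le_antisymm ?_ ?_⟩
  · show κ (MvPowerSeries.X j) ≠ 0
    rw [hj]
    exact fun h => by simpa [MvPowerSeries.coeff_X] using congrArg (MvPowerSeries.coeff (Finsupp.single 0 1)) h
  · intro x hx
    obtain ⟨f, rfl⟩ := Ideal.Quotient.mk_surjective x
    change κ f = 0 at hx
    obtain ⟨g, rfl⟩ : MvPowerSeries.X i ∣ f := MvPowerSeries.X_dvd_iff.2 fun m hm => by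
      have hme : m = Finsupp.embDomain e (Finsupp.single 0 (m j)) := by
        rw [Finsupp.embDomain_single]
        ext l
        show m l = Finsupp.single j (m j) l
        rcases eq_or_ne l j with rfl | hl
        · rw [Finsupp.single_eq_same]
        · have : l = i := by omega
          rw [Finsupp.single_eq_of_ne hl, this, hm]
      rw [hme, ← MvPowerSeries.coeff_killCompl]
      exact (congrArg (MvPowerSeries.coeff _) hx).trans (map_zero _)
    rw [map_mul]
    exact Ideal.mul_mem_right _ _ (Ideal.mem_span_singleton_self _)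
  · rw [Ideal.span_le, Set.singleton_subset_iff]
    exact hi

end NodeInvolLib
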