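import Groth.Agent.NodeInvolLib.Eigen
import Groth.Agent.NodeInvolLib.Model
import Groth.Agent.NodeCplLib.Equiv
import Mathlib.RingTheory.Nakayama
import Mathlib.RingTheory.Ideal.MinimalPrime.Basic

/-!
# Node deformations with an involution
-/

set_option autoImplicit false
set_option maxHeartbeats 1000000

universe u

open IsLocalRing

namespace NodeInvolLib

variable {k R S : Type u} [Field k] [CommRing R] [IsLocalRing R] [IsNoetherianRing R]
  [CommRing S] [IsLocalRing S] [IsNoetherianRing S] [Algebra k R] [Algebra R S] [Algebra k S]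
  [IsScalarTower k R S] [IsLocalHom (algebraMap R S)]

omit [IsLocalRing R] [IsNoetherianRing R] [IsNoetherianRing S] [IsLocalHom (algebraMap R S)] in
/-- An element spanning an invariant branch can be chosen to be an eigenvector. -/
theorem exists_eigen_gen (σ : S ≃ₐ[R] S) (hσ : ∀ s, σ (σ s) = s) (h2 : (2 : k) ≠ 0)
    (hconst : ∀ s : S, ∃ c : k, s - algebraMap k S c ∈ maximalIdeal S)
    {M : Ideal S} (hM : M ≤ maximalIdeal S) (hMσ : ∀ z ∈ M, σ z ∈ M)
    {w : S} (hw : w ∉ M) (hσw : σ w ∈ Ideal.span {w} ⊔ M) :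
    ∃ (c : k) (x : S), c ^ 2 = 1 ∧ σ x = algebraMap R S (algebraMap k R c) * x ∧
      x ∈ Ideal.span {w} ⊔ M ∧ w ∈ Ideal.span {x} ⊔ M := by
  obtain ⟨y, hy, z, hz, hyz⟩ := Submodule.mem_sup.1 hσw
  obtain ⟨a, rfl⟩ := Ideal.mem_span_singleton'.1 hy
  obtain ⟨c, hc⟩ := hconst a
  have hσk : ∀ b : k, σ (algebraMap k S b) = algebraMap k S b := fun b => by
    rw [IsScalarTower.algebraMap_apply k R S, σ.commutes]
  have hloc : ∀ b ∈ maximalIdeal S, σ b ∈ maximalIdeal S := fun b hb hu =>
    hb ((MulEquiv.isUnit_map (f := σ.toMulEquiv) (x := b)).1 hu)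
  have hσa : σ a - algebraMap k S c ∈ maximalIdeal S := by
    rw [← hσk c, ← map_sub]
    exact hloc _ hc
  have hrel : (1 - σ a * a) * w ∈ M := by
    have h1 : w = σ a * (a * w + z) + σ z := by rw [hyz, ← map_mul, ← map_add, hyz, hσ]
    have h2 : (1 - σ a * a) * w = σ a * z + σ z := by linear_combination h1
    rw [h2]
    exact add_mem (Ideal.mul_mem_left _ _ hz) (hMσ z hz)
  have hc2 : c ^ 2 = 1 := by
    by_contra hne
    have hu : IsUnit (1 - σ a * a) := by
      have h1 : IsUnit (algebraMap k S (1 - c ^ 2)) :=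
        (IsUnit.mk0 _ (sub_ne_zero.2 (Ne.symm hne))).map _
      have h2 : algebraMap k S (1 - c ^ 2) - (1 - σ a * a) ∈ maximalIdeal S := by
        rw [map_sub, map_one, map_pow, show (1 : S) - algebraMap k S c ^ 2 - (1 - σ a * a) =
          σ a * (a - algebraMap k S c) + algebraMap k S c * (σ a - algebraMap k S c) by ring]
        exact add_mem (Ideal.mul_mem_left _ _ hc) (Ideal.mul_mem_left _ _ hσa)
      by_contra hnu
      exact (mem_maximalIdeal _).1 (add_mem h2 ((mem_maximalIdeal _).2 hnu)) (by simpa using h1)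
    exact hw ((Ideal.unit_mul_mem_iff_mem M hu).1 hrel)
  let hS : S := algebraMap R S (algebraMap k R (2 : k)⁻¹)
  let cS : S := algebraMap R S (algebraMap k R c)
  have hh : hS * 2 = 1 := by
    simp only [hS]
    rw [← IsScalarTower.algebraMap_apply k R S, ← map_ofNat (algebraMap k S) 2, ← map_mul,
      inv_mul_cancel₀ h2, map_one]
  have hcc : cS * cS = 1 := by
    simp only [cS]
    rw [← IsScalarTower.algebraMap_apply k R S, ← map_mul, ← pow_two, hc2, map_one]
  have hcS : cS = algebraMap k S c := (IsScalarTower.algebraMap_apply k R S c).symm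
  let t : S := hS * (1 + cS * a)
  have ht : IsUnit t := by
    have h1 : 1 - t ∈ maximalIdeal S := by
      have : 1 - t = (-(hS * cS)) * (a - cS) + (1 - hS * (1 + cS * cS)) := by simp only [t]; ring
      rw [this, hcc, show (1 : S) + 1 = 2 from one_add_one_eq_two, hh, sub_self, add_zero]
      exact Ideal.mul_mem_left _ _ (hcS ▸ hc)
    by_contra hnu
    exact (mem_maximalIdeal _).1 (add_mem h1 ((mem_maximalIdeal _).2 hnu)) (by simp)
  let x : S := hS * (w + cS * σ w)
  have hxw : x = t * w + hS * cS * z := by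
    simp only [x, t]
    rw [← hyz]; ring
  have hmz : hS * cS * z ∈ M := Ideal.mul_mem_left _ _ hz
  refine ⟨c, x, hc2, ?_, ?_, ?_⟩
  · simp only [x, map_mul, map_add, hσ, hS, cS, AlgEquiv.commutes]
    linear_combination (-(algebraMap R S (algebraMap k R (2 : k)⁻¹) * σ w)) * hcc
  · rw [hxw]
    exact Submodule.add_mem_sup (Ideal.mul_mem_left _ _ (Ideal.mem_span_singleton_self w)) hmz
  · obtain ⟨tu, htu⟩ := ht
    have : w = (↑tu⁻¹ : S) * x + (-((↑tu⁻¹ : S) * (hS * cS * z))) := by
      rw [hxw, ← htu, mul_add, ← mul_assoc, Units.inv_mul, one_mul, add_neg_cancel_right]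
    rw [this]
    exact Submodule.add_mem_sup (Ideal.mul_mem_left _ _ (Ideal.mem_span_singleton_self x))
      (neg_mem (Ideal.mul_mem_left _ _ hmz))

variable [IsAdicComplete (maximalIdeal R) R] [IsAdicComplete (maximalIdeal S) S] [Module.Flat R S]

/-- A flat deformation of a node with a branch preserving involution is a standard one. -/
theorem exists_algEquiv (h2 : (2 : k) ≠ 0)
    (e : (S ⧸ (maximalIdeal R).map (algebraMap R S)) ≃ₐ[k] N2 k)
    (σ : S ≃ₐ[R] S) (hσ : ∀ s, σ (σ s) = s)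
    (hbr : ∀ P ∈ ((maximalIdeal R).map (algebraMap R S)).minimalPrimes, Ideal.map (σ : S →+* S) P = P) :
    ∃ (t : R) (ξ₁ ξ₂ : k), ξ₁ ^ 2 = 1 ∧ ξ₂ ^ 2 = 1 ∧ (ξ₁ = -ξ₂ → t = 0) ∧
      ∃ f : S ≃ₐ[R] (MvPowerSeries (Fin 2) R ⧸
          Ideal.span {(MvPowerSeries.X 0 * MvPowerSeries.X 1 - MvPowerSeries.C t : MvPowerSeries (Fin 2) R)}),
        f (σ (f.symm (Ideal.Quotient.mk _ (MvPowerSeries.X 0)))) =
          algebraMap k R ξ₂ • Ideal.Quotient.mk _ (MvPowerSeries.X 0) ∧
        f (σ (f.symm (Ideal.Quotient.mk _ (MvPowerSeries.X 1)))) =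
          algebraMap k R ξ₁ • Ideal.Quotient.mk _ (MvPowerSeries.X 1) := by
  set M : Ideal S := (maximalIdeal R).map (algebraMap R S) with hMdef
  have hMle : M ≤ maximalIdeal S :=
    Ideal.map_le_iff_le_comap.2 fun a ha => (mem_maximalIdeal _).2 (map_nonunit (algebraMap R S) a ha)
  -- the closed fibre as the split node
  obtain ⟨ψN, hψN⟩ := exists_equiv_model k h2
  let ρ : S →+* NN k := ψN.symm.toRingHom.comp (e.toAlgHom.toRingHom.comp (Ideal.Quotient.mk M))
  have hρs : Function.Surjective ρ :=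
    ψN.symm.surjective.comp (e.surjective.comp Ideal.Quotient.mk_surjective)
  have hρker : RingHom.ker ρ = M := by
    ext z
    refine ⟨fun hz => ?_, fun hz => ?_⟩
    · have h1 : e (Ideal.Quotient.mk M z) = 0 := ψN.symm.injective (hz.trans (map_zero _).symm)
      exact Ideal.Quotient.eq_zero_iff_mem.1 (e.injective (h1.trans (map_zero e).symm))
    · show ψN.symm (e (Ideal.Quotient.mk M z)) = 0
      rw [Ideal.Quotient.eq_zero_iff_mem.2 hz, map_zero, map_zero]
  have hρc : ∀ c, ρ (algebraMap k S c) = Ideal.Quotient.mk _ (MvPowerSeries.C c) := fun c => by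
    show ψN.symm (e (Ideal.Quotient.mk M (algebraMap k S c))) = _
    rw [RingEquiv.symm_apply_eq, hψN]
    exact e.commutes c
  obtain ⟨u₀, hu₀⟩ := hρs (Ideal.Quotient.mk _ (MvPowerSeries.X 0))
  obtain ⟨v₀, hv₀⟩ := hρs (Ideal.Quotient.mk _ (MvPowerSeries.X 1))
  have huv : u₀ * v₀ ∈ M := by
    rw [← hρker, RingHom.mem_ker, map_mul, hu₀, hv₀, ← map_mul]
    exact Ideal.Quotient.eq_zero_iff_mem.2 (Ideal.mem_span_singleton_self _)
  -- the two branches
  have hbranch : ∀ (i j : Fin 2) (a b : S), i ≠ j → ρ a = Ideal.Quotient.mk _ (MvPowerSeries.X i) →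
      ρ b = Ideal.Quotient.mk _ (MvPowerSeries.X j) → a * b ∈ M →
      b ∉ M ∧ Ideal.span {a} ⊔ M ∈ M.minimalPrimes ∧ a ∈ maximalIdeal S := by
    intro i j a b hij ha hb hab
    obtain ⟨θ, hθj, hθker⟩ := exists_branch k i j hij
    have hK : RingHom.ker (θ.comp ρ) = Ideal.span {a} ⊔ M := by
      have hsa : Ideal.span {ρ a} = (Ideal.span {a}).map ρ := by rw [Ideal.map_span, Set.image_singleton]
      rw [← RingHom.comap_ker, hθker, ← ha, hsa, Ideal.comap_map_of_surjective ρ hρs, ← RingHom.ker_eq_comap_bot, hρker]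
    have hbK : b ∉ Ideal.span {a} ⊔ M := fun h => hθj (by
      have : θ (ρ b) = 0 := hK.ge h
      rwa [hb] at this)
    haveI : IsDomain (MvPowerSeries (Fin 1) k) := NoZeroDivisors.to_isDomain _
    haveI hp : (Ideal.span {a} ⊔ M).IsPrime := hK ▸ RingHom.ker_isPrime _
    refine ⟨fun h => hbK (Submodule.mem_sup_right h), ⟨⟨hp, le_sup_right⟩, fun Q hQ hle => ?_⟩, ?_⟩
    · have : a ∈ Q := (hQ.1.mem_or_mem (hQ.2 hab)).resolve_right fun h => hbK (hle h)
      exact sup_le (Ideal.span_le.2 (Set.singleton_subset_iff.2 this)) hQ.2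
    · exact le_maximalIdeal hp.ne_top (Submodule.mem_sup_left (Ideal.mem_span_singleton_self a))
  obtain ⟨hvM, hPu, hum⟩ := hbranch 0 1 u₀ v₀ (by decide) hu₀ hv₀ huv
  obtain ⟨huM, hPv, hvm⟩ := hbranch 1 0 v₀ u₀ (by decide) hv₀ hu₀ (by rwa [mul_comm])
  -- constants
  have hsplit : ∀ s : S, ∃ c : k, s - algebraMap k S c ∈ Ideal.span {u₀, v₀} ⊔ M := by
    intro s
    obtain ⟨f, hf⟩ := Ideal.Quotient.mk_surjective (ρ s)
    refine ⟨MvPowerSeries.constantCoeff f, ?_⟩
    have h1 : ρ (s - algebraMap k S (MvPowerSeries.constantCoeff f)) ∈ (Ideal.span {u₀, v₀}).map ρ := by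
      rw [map_sub, hρc, ← hf, ← map_sub, Ideal.map_span, Set.image_pair, hu₀, hv₀, ← Set.image_pair,
        ← Ideal.map_span]
      refine Ideal.mem_map_of_mem _ ?_
      have h2 : f - MvPowerSeries.C (MvPowerSeries.constantCoeff f) ∈ CohenLib.varsIdeal k 2 := by
        rw [← CohenLib.ker_constantCoeff, RingHom.mem_ker, map_sub, MvPowerSeries.constantCoeff_C, sub_self]
      have h3 : CohenLib.varsIdeal k 2 ≤
          Ideal.span {(MvPowerSeries.X 0 : MvPowerSeries (Fin 2) k), MvPowerSeries.X 1} := by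
        refine Ideal.span_le.2 ?_
        rintro _ ⟨i, rfl⟩
        fin_cases i
        · exact Ideal.subset_span (Set.mem_insert _ _)
        · exact Ideal.subset_span (Set.mem_insert_of_mem _ rfl)
      exact h3 h2
    have h4 := Ideal.mem_comap.2 h1
    rwa [Ideal.comap_map_of_surjective ρ hρs, ← RingHom.ker_eq_comap_bot, hρker] at h4
  have hJle : Ideal.span {u₀, v₀} ⊔ M ≤ maximalIdeal S :=
    sup_le (Ideal.span_le.2 (Set.insert_subset hum (Set.singleton_subset_iff.2 hvm))) hMle
  have hconst : ∀ s : S, ∃ c : k, s - algebraMap k S c ∈ maximalIdeal S := fun s =>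
    (hsplit s).imp fun c hc => hJle hc
  have hgen0 : maximalIdeal S = Ideal.span {u₀, v₀} ⊔ M := by
    refine le_antisymm (fun s hs => ?_) hJle
    obtain ⟨c, hc⟩ := hsplit s
    have hc0 : c = 0 := by
      by_contra hne
      refine (mem_maximalIdeal _).1 (sub_sub_cancel s (algebraMap k S c) ▸ sub_mem hs (hJle hc)) ?_
      exact (IsUnit.mk0 c hne).map _
    rwa [hc0, map_zero, sub_zero] at hc
  have hresk : Function.Bijective (algebraMap k (ResidueField R)) := by
    refine ⟨(algebraMap k (ResidueField R)).injective, fun z => ?_⟩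
    obtain ⟨r, rfl⟩ := residue_surjective z
    obtain ⟨c, hc⟩ := hconst (algebraMap R S r)
    refine ⟨c, ?_⟩
    rw [IsScalarTower.algebraMap_apply k R (ResidueField R)]
    refine (Ideal.Quotient.eq.2 ((mem_maximalIdeal _).2 fun hu => ?_)).symm
    refine (mem_maximalIdeal _).1 hc ?_
    rw [IsScalarTower.algebraMap_apply k R S, ← map_sub]
    exact hu.map _
  have hres : Function.Bijective (ResidueField.map (algebraMap R S)) := by
    refine ⟨(ResidueField.map (algebraMap R S)).injective, fun z => ?_⟩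
    obtain ⟨s, rfl⟩ := residue_surjective z
    obtain ⟨c, hc⟩ := hconst s
    refine ⟨residue R (algebraMap k R c), ?_⟩
    rw [ResidueField.map_residue, ← IsScalarTower.algebraMap_apply k R S]
    exact (Ideal.Quotient.eq.2 hc).symm
  -- eigenvectors
  have hMσ : ∀ z ∈ M, σ z ∈ M := fun z hz => map_mem hz
  obtain ⟨ξ₂, u, hξ₂, hσu, huP, hu₀P⟩ := exists_eigen_gen σ hσ h2 hconst hMle hMσ huM
    ((hbr _ hPu).le (Ideal.mem_map_of_mem _ (Submodule.mem_sup_left (Ideal.mem_span_singleton_self u₀))))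
  obtain ⟨ξ₁, v, hξ₁, hσv, hvP, hv₀P⟩ := exists_eigen_gen σ hσ h2 hconst hMle hMσ hvM
    ((hbr _ hPv).le (Ideal.mem_map_of_mem _ (Submodule.mem_sup_left (Ideal.mem_span_singleton_self v₀))))
  have hgen : maximalIdeal S = Ideal.span {u, v} ⊔ M := by
    rw [hgen0, Ideal.span_insert, Ideal.span_insert]
    apply le_antisymm
    · refine sup_le (sup_le ?_ ?_) le_sup_right
      · exact Ideal.span_le.2 (Set.singleton_subset_iff.2
          (sup_le_sup_right le_sup_left M hu₀P))
      · exact Ideal.span_le.2 (Set.singleton_subset_iff.2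
          (sup_le_sup_right le_sup_right M hv₀P))
    · refine sup_le (sup_le ?_ ?_) le_sup_right
      · exact Ideal.span_le.2 (Set.singleton_subset_iff.2
          (sup_le_sup_right le_sup_left M huP))
      · exact Ideal.span_le.2 (Set.singleton_subset_iff.2
          (sup_le_sup_right le_sup_right M hvP))
  have huv' : u * v ∈ M := by
    obtain ⟨a, ha, m, hm, rfl⟩ := Submodule.mem_sup.1 huP
    obtain ⟨b, hb, m', hm', rfl⟩ := Submodule.mem_sup.1 hvP
    obtain ⟨a', rfl⟩ := Ideal.mem_span_singleton'.1 ha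
    obtain ⟨b', rfl⟩ := Ideal.mem_span_singleton'.1 hb
    rw [show (a' * u₀ + m) * (b' * v₀ + m') = a' * b' * (u₀ * v₀) + a' * u₀ * m' + (b' * v₀ + m') * m by ring]
    exact add_mem (add_mem (Ideal.mul_mem_left _ _ huv) (Ideal.mul_mem_left _ _ hm')) (Ideal.mul_mem_left _ _ hm)
  have hsq : ∀ c : k, c ^ 2 = 1 → algebraMap k R c * algebraMap k R c = 1 := fun c hc => by
    rw [← map_mul, ← pow_two, hc, map_one]
  have hhalf : 2 * algebraMap k R (2 : k)⁻¹ = 1 := by
    rw [← map_ofNat (algebraMap k R) 2, ← map_mul, mul_inv_cancel₀ h2, map_one]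
  obtain ⟨x, y, t, hσx, hσy, hxu, hyv, htm, htχ, hxy⟩ :=
    exists_coords hσ hhalf (hsq _ hξ₂) (hsq _ hξ₁) hres hσu hσv huv' hgen
  refine ⟨t, ξ₁, ξ₂, hξ₁, hξ₂, fun hne => ?_, ?_⟩
  · rw [hne, map_neg, mul_neg, hsq _ hξ₂, mul_neg, mul_one] at htχ
    have : (2 * algebraMap k R (2 : k)⁻¹) * t = 0 := by
      linear_combination (-(algebraMap k R (2 : k)⁻¹)) * htχ
    rwa [hhalf, one_mul] at this
  -- the coordinate map
  have hmxy : ∀ i, ![x, y] i ∈ maximalIdeal S := by
    intro i
    fin_cases i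
    · show x ∈ _
      rw [← sub_add_cancel x u]
      exact add_mem (hMle hxu) (hgen.ge (Submodule.mem_sup_left (Ideal.subset_span (Set.mem_insert _ _))))
    · show y ∈ _
      rw [← sub_add_cancel y v]
      exact add_mem (hMle hyv) (hgen.ge (Submodule.mem_sup_left (Ideal.subset_span (Set.mem_insert_of_mem _ rfl))))
  let P := MvPowerSeries (Fin 2) R
  let Φ := CohenLib.psHom (maximalIdeal S) (algebraMap R S) ![x, y] hmxy
  have hΦX : ∀ i, Φ (MvPowerSeries.X i) = ![x, y] i := CohenLib.psHom_X _ _ _ _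
  have hΦC : ∀ c, Φ (MvPowerSeries.C c) = algebraMap R S c := CohenLib.psHom_C _ _ _ _
  let F : P := MvPowerSeries.X 0 * MvPowerSeries.X 1 - MvPowerSeries.C t
  have hΦF : Φ F = 0 := by
    simp only [F, map_sub, map_mul, hΦX, hΦC]
    simp [hxy]
  let T := P ⧸ Ideal.span {F}
  let ψ : T →ₐ[R] S :=
    { Ideal.Quotient.lift _ Φ (fun z hz => by
        obtain ⟨w, rfl⟩ := Ideal.mem_span_singleton.1 hz
        rw [map_mul, hΦF, zero_mul]) with
      commutes' := fun a => by
        show Φ (algebraMap R P a) = _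
        rw [MvPowerSeries.algebraMap_apply]
        exact hΦC a }
  have hψ : ∀ z, ψ (Ideal.Quotient.mk _ z) = Φ z := fun _ => rfl
  haveI : IsNoetherianRing P := CohenLib.isNoetherianRing_mvPowerSeries R
  haveI : IsAdicComplete ((maximalIdeal R).map MvPowerSeries.C ⊔ CohenLib.varsIdeal R 2) P :=
    CohenLib.isAdicComplete_sup_varsIdeal R (maximalIdeal R)
  have hΦs : Function.Surjective Φ := by
    refine CohenLib.surjective_of_complete (maximalIdeal S)
      ((maximalIdeal R).map MvPowerSeries.C ⊔ CohenLib.varsIdeal R 2) Φ ?_ fun r => ?_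
    · rw [Ideal.map_sup, Ideal.map_map, show Φ.comp MvPowerSeries.C = algebraMap R S from RingHom.ext hΦC,
        CohenLib.varsIdeal, Ideal.map_span, ← Set.range_comp, show Φ ∘ MvPowerSeries.X = ![x, y] from funext hΦX]
      refine le_antisymm (sup_le hMle (Ideal.span_le.2 ?_)) ?_
      · rintro _ ⟨i, rfl⟩; exact hmxy i
      · rw [hgen]
        refine sup_le (Ideal.span_le.2 (Set.insert_subset ?_ (Set.singleton_subset_iff.2 ?_))) le_sup_left
        · rw [SetLike.mem_coe, ← sub_sub_cancel x u]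
          exact sub_mem (Submodule.mem_sup_right (Ideal.subset_span ⟨0, rfl⟩)) (Submodule.mem_sup_left hxu)
        · rw [SetLike.mem_coe, ← sub_sub_cancel y v]
          exact sub_mem (Submodule.mem_sup_right (Ideal.subset_span ⟨1, rfl⟩)) (Submodule.mem_sup_left hyv)
    · obtain ⟨c, hc⟩ := hconst r
      exact ⟨MvPowerSeries.C (algebraMap k R c), by rw [hΦC, ← IsScalarTower.algebraMap_apply]; exact hc⟩
  have hψs : Function.Surjective ψ := fun s => by
    obtain ⟨p, rfl⟩ := hΦs s
    exact ⟨Ideal.Quotient.mk _ p, rfl⟩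
  -- injectivity
  let res : R →+* k := (RingEquiv.ofBijective _ hresk).symm.toRingHom.comp (residue R)
  have hres0 : ∀ r, res r = 0 ↔ r ∈ maximalIdeal R := fun r => by
    show (RingEquiv.ofBijective _ hresk).symm (residue R r) = 0 ↔ _
    rw [map_eq_zero_iff _ (RingEquiv.ofBijective _ hresk).symm.injective, residue_eq_zero_iff]
  have hress : Function.Surjective res := fun c =>
    ⟨algebraMap k R c, by
      show (RingEquiv.ofBijective _ hresk).symm (residue R (algebraMap k R c)) = c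
      rw [RingEquiv.symm_apply_eq]
      rfl⟩
  have hmaps : Function.Surjective (MvPowerSeries.map (σ := Fin 2) res) := fun G => by
    choose H hH using fun d => hress (MvPowerSeries.coeff d G)
    exact ⟨(fun d => H d : P), MvPowerSeries.ext fun d => hH d⟩
  let s₀ : P →+* NN k := (Ideal.Quotient.mk _).comp (MvPowerSeries.map res)
  let sT : T →+* NN k := Ideal.Quotient.lift _ s₀ fun z hz => by
    obtain ⟨w, rfl⟩ := Ideal.mem_span_singleton.1 hz
    rw [map_mul, show s₀ F = 0 from Ideal.Quotient.eq_zero_iff_mem.2 (by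
      simp [F, P, (hres0 t).2 htm, Ideal.mem_span_singleton_self]), zero_mul]
  have hsTs : Function.Surjective sT := fun z => by
    obtain ⟨G, rfl⟩ := Ideal.Quotient.mk_surjective z
    obtain ⟨H, rfl⟩ := hmaps G
    exact ⟨Ideal.Quotient.mk _ H, rfl⟩
  let MT : Ideal T := (maximalIdeal R).map (algebraMap R T)
  have hker : RingHom.ker sT ≤ MT := by
    intro z hz
    obtain ⟨g, rfl⟩ := Ideal.Quotient.mk_surjective z
    have hz' : Ideal.Quotient.mk _ (MvPowerSeries.map res g) = (0 : NN k) := hz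
    obtain ⟨q, hq⟩ := Ideal.mem_span_singleton.1 (Ideal.Quotient.eq_zero_iff_mem.1 hz')
    obtain ⟨G, rfl⟩ := hmaps q
    have h1 : g - F * G ∈ (maximalIdeal R).map (MvPowerSeries.C (σ := Fin 2)) := by
      refine NodeCplLib.mem_map_C_of_coeff_mem (IsNoetherian.noetherian _) _ fun d => ?_
      rw [← hres0, ← MvPowerSeries.coeff_map]
      simp [F, hq, (hres0 t).2 htm]
    have h2 := Ideal.mem_map_of_mem (Ideal.Quotient.mk (Ideal.span {F})) h1
    rw [Ideal.map_map, map_sub, map_mul, Ideal.Quotient.eq_zero_iff_mem.2 (Ideal.mem_span_singleton_self F),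
      zero_mul, sub_zero] at h2
    have hA : (Ideal.Quotient.mk (Ideal.span {F})).comp (MvPowerSeries.C (σ := Fin 2)) = algebraMap R T :=
      RingHom.ext fun a => by
        show _ = Ideal.Quotient.mk _ (algebraMap R P a)
        rw [MvPowerSeries.algebraMap_apply]; rfl
    rw [hA] at h2
    exact h2
  let r : T →+* NN k := ρ.comp ψ.toRingHom
  have hrs : Function.Surjective r := hρs.comp hψs
  have hrM : MT ≤ RingHom.ker r := Ideal.map_le_iff_le_comap.2 fun a ha => by
    show ρ (ψ (algebraMap R T a)) = 0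
    rw [AlgHom.commutes, ← RingHom.mem_ker, hρker]
    exact Ideal.mem_map_of_mem _ ha
  let E : NN k →+* NN k := RingHom.liftOfSurjective sT hsTs ⟨r, hker.trans hrM⟩
  have hE : ∀ z, E (sT z) = r z := fun z => RingHom.liftOfRightInverse_comp_apply _ _ _ _ z
  have hEi : Function.Injective E := CohenLib.injective_of_surjective_ringEndo E fun z => by
    obtain ⟨w, rfl⟩ := hrs z; exact ⟨sT w, hE w⟩
  have hK : RingHom.ker ψ ≤ MT := fun z hz => hker <| hEi <| by
    rw [hE, map_zero]
    show ρ (ψ z) = 0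
    rw [show ψ z = 0 from hz, map_zero]
  haveI : Nontrivial T := ψ.toRingHom.domain_nontrivial
  haveI : IsLocalRing T := IsLocalRing.of_surjective' (Ideal.Quotient.mk _) Ideal.Quotient.mk_surjective
  have hMT : MT ≤ maximalIdeal T := Ideal.map_le_iff_le_comap.2 fun a ha hu => by
    refine map_nonunit (algebraMap R S) a ha ?_
    rw [← ψ.commutes]
    exact hu.map ψ
  have hψi : Function.Injective ψ := by
    rw [show Function.Injective ψ ↔ RingHom.ker ψ = ⊥ from RingHom.injective_iff_ker_eq_bot _]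
    exact Submodule.eq_bot_of_le_smul_of_le_jacobson_bot MT _ (IsNoetherian.noetherian _)
      (NodeCplLib.ker_le_map_mul_ker ψ hψs _ hK) (hMT.trans (maximalIdeal_le_jacobson _))
  let ψe : T ≃ₐ[R] S := AlgEquiv.ofBijective ψ ⟨hψi, hψs⟩
  refine ⟨ψe.symm, ?_, ?_⟩
  · apply ψe.injective
    rw [AlgEquiv.apply_symm_apply, map_smul, AlgEquiv.symm_symm, Algebra.smul_def]
    show σ (Φ (MvPowerSeries.X 0)) = _ * Φ (MvPowerSeries.X 0)
    rw [hΦX]
    exact hσx
  · apply ψe.injective
    rw [AlgEquiv.apply_symm_apply, map_smul, AlgEquiv.symm_symm, Algebra.smul_def]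
    show σ (Φ (MvPowerSeries.X 1)) = _ * Φ (MvPowerSeries.X 1)
    rw [hΦX]
    exact hσy

end NodeInvolLib
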